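import Mathlib.FieldTheory.IsAlgClosed.Basic
import Mathlib.LinearAlgebra.Dimension.Finrank
import Mathlib.LinearAlgebra.FiniteDimensional.Basic
import Mathlib.Algebra.CharP.Lemmas
import Mathlib.LinearAlgebra.Basis.VectorSpace

/-!
# Lang-type equations `ν (F v) - ν v ^ p = μ v` over an algebraically closed field
-/

set_option autoImplicit false

universe u v

namespace K137.LangEq

open Polynomial Module

variable {k : Type u} [Field k] (p : ℕ) [Fact p.Prime] [CharP k p]

/-- The polynomials `P_0 = X`, `P_{i+1} = P_i ^ p + c_i`. -/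
noncomputable def P (c : ℕ → k) : ℕ → k[X]
  | 0 => X
  | i + 1 => P c i ^ p + C (c i)

omit [CharP k p] in
theorem natDegree_P (c : ℕ → k) (i : ℕ) : (P p c i).natDegree = p ^ i ∧ (P p c i).Monic := by
  have hp : 1 < p := (Fact.out : p.Prime).one_lt
  induction i with
  | zero => exact ⟨by simp [P], monic_X⟩
  | succ i ih =>
    have h1 : (P p c i ^ p).Monic := ih.2.pow p
    have h2 : (P p c i ^ p).natDegree = p ^ (i + 1) := by
      rw [ih.2.natDegree_pow, ih.1, pow_succ, mul_comm]
    have h3 : 0 < (P p c i ^ p).natDegree := by rw [h2]; positivity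
    constructor
    · change (P p c i ^ p + C (c i)).natDegree = _
      rw [natDegree_add_C, h2]
    · change (P p c i ^ p + C (c i)).Monic
      apply h1.add_of_left
      refine lt_of_le_of_lt degree_C_le ?_
      exact natDegree_pos_iff_degree_pos.1 h3

variable {V : Type v} [AddCommGroup V] [Module k V]

omit [Fact p.Prime] [CharP k p] in
/-- Additive `p`-semilinear functions killing a set kill its span. -/
theorem eq_zero_of_span {f : V →+ k} (hf : ∀ (c : k) (v : V), f (c • v) = c ^ p * f v) {s : Set V}
    (hs : ∀ v ∈ s, f v = 0) {v : V} (hv : v ∈ Submodule.span k s) : f v = 0 := by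
  induction hv using Submodule.span_induction with
  | mem v hv => exact hs v hv
  | zero => exact map_zero f
  | add a b _ _ ha hb => rw [map_add, ha, hb, add_zero]
  | smul a b _ hb => rw [hf, hb, mul_zero]

omit [Fact p.Prime] [CharP k p] in
theorem linearIndependent_fin {x : ℕ → V} {m : ℕ}
    (h : ∀ i < m, x i ∉ Submodule.span k (Set.range fun j : Fin i => x j)) :
    ∀ r ≤ m, LinearIndependent k (fun i : Fin r => x i) := by
  intro r
  induction r with
  | zero => exact fun _ => linearIndependent_empty_type
  | succ r ih =>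
    intro hr
    rw [linearIndependent_finSucc']
    exact ⟨ih (by omega), h r (by omega)⟩

theorem exists_lang [IsAlgClosed k] [FiniteDimensional k V] (F : V →+ V)
    (hF : ∀ (c : k) (v : V), F (c • v) = c ^ p • F v) (μ : V →+ k)
    (hμ : ∀ (c : k) (v : V), μ (c • v) = c ^ p * μ v) :
    ∃ ν : V →ₗ[k] k, ∀ v, ν (F v) - ν v ^ p = μ v := by
  have hp : 1 < p := (Fact.out : p.Prime).one_lt
  obtain ⟨n, hn⟩ : ∃ n, finrank k V = n := ⟨_, rfl⟩
  induction n using Nat.strong_induction_on generalizing V with
  | _ n ih =>
  rcases subsingleton_or_nontrivial V with hV | hV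
  · refine ⟨0, fun v => ?_⟩
    rw [Subsingleton.elim v 0, map_zero, map_zero, map_zero, zero_pow (by omega), sub_zero]
  obtain ⟨e, he⟩ := exists_ne (0 : V)
  let x : ℕ → V := fun i => F^[i] e
  have hx : ∀ i, F (x i) = x (i + 1) := fun i => (Function.iterate_succ_apply' F i e).symm
  -- the first `m` such that `x m` depends on the previous ones
  have hex : ∃ m, x m ∈ Submodule.span k (Set.range fun i : Fin m => x i) := by
    by_contra hcon
    push Not at hcon
    have hli := linearIndependent_fin (k := k) (x := x) (m := finrank k V + 1) (fun i _ => hcon i)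
      (finrank k V + 1) le_rfl
    have := hli.fintype_card_le_finrank
    simp at this
  classical
  let m := Nat.find hex
  have hm : x m ∈ Submodule.span k (Set.range fun i : Fin m => x i) := Nat.find_spec hex
  have hli : LinearIndependent k (fun i : Fin m => x i) :=
    linearIndependent_fin (fun i hi => Nat.find_min hex hi) m le_rfl
  have hm0 : 0 < m := by
    rcases Nat.eq_zero_or_pos m with h | h
    · exfalso
      have h0 := hm
      rw [h] at h0
      have h1 : (Set.range fun i : Fin 0 => x i) = ∅ := Set.range_eq_empty _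
      rw [h1, Submodule.span_empty, Submodule.mem_bot] at h0
      exact he h0
    · exact h
  obtain ⟨b, hb⟩ := (Submodule.mem_span_range_iff_exists_fun k).1 hm
  -- the polynomial equation
  let c : ℕ → k := fun i => μ (x i)
  let Q : k[X] := P p c m - ∑ i : Fin m, C (b i) * P p c i
  have hQ : Q.natDegree = p ^ m := by
    have h1 : (∑ i : Fin m, C (b i) * P p c i).degree < (P p c m).degree := by
      rw [degree_eq_natDegree (natDegree_P p c m).2.ne_zero, (natDegree_P p c m).1]
      refine (degree_sum_le _ _).trans_lt ?_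
      rw [Finset.sup_lt_iff (by exact_mod_cast WithBot.bot_lt_coe _)]
      intro i _
      have h2 : (C (b i) * P p c i).degree ≤ (P p c i).degree := by
        rw [← smul_eq_C_mul]
        exact degree_smul_le _ _
      refine h2.trans_lt ?_
      rw [degree_eq_natDegree (natDegree_P p c i).2.ne_zero, (natDegree_P p c i).1]
      exact_mod_cast Nat.pow_lt_pow_right hp i.2
    have h2 := degree_sub_eq_left_of_degree_lt h1
    change (P p c m - ∑ i : Fin m, C (b i) * P p c i).natDegree = _
    rw [natDegree_eq_of_degree_eq h2, (natDegree_P p c m).1]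
  obtain ⟨y, hy⟩ := IsAlgClosed.exists_root Q (by
    have : 0 < Q.natDegree := by rw [hQ]; positivity
    exact (natDegree_pos_iff_degree_pos.1 this).ne')
  have hy' : (P p c m).eval y = ∑ i : Fin m, b i * (P p c i).eval y := by
    have h1 : Q.eval y = 0 := hy
    have h2 : Q.eval y = (P p c m).eval y - ∑ i : Fin m, b i * (P p c i).eval y := by
      simp only [Q, eval_sub, eval_finsetSum, eval_mul, eval_C]
    rw [h2, sub_eq_zero] at h1
    exact h1
  -- a functional with the prescribed values
  obtain ⟨ν, hν⟩ : ∃ ν : V →ₗ[k] k, ∀ i : Fin m, ν (x i) = (P p c i).eval y := by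
    let g : (Fin m → k) →ₗ[k] V := Fintype.linearCombination k (fun i : Fin m => x i)
    obtain ⟨g', hg'⟩ := g.exists_leftInverse_of_injective (by
      rw [LinearMap.ker_eq_bot]
      intro a a' haa
      have h1 := Fintype.linearIndependent_iff.1 hli (a - a') (by
        have h2 : g (a - a') = 0 := by rw [map_sub, haa, sub_self]
        rw [← h2]
        rfl)
      funext i
      exact sub_eq_zero.1 (h1 i))
    refine ⟨(Fintype.linearCombination k (fun i : Fin m => (P p c i).eval y)).comp g', fun i => ?_⟩
    have h1 : g (Pi.single i 1) = x i := by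
      rw [Fintype.linearCombination_apply_single, one_smul]
    rw [LinearMap.comp_apply, ← h1, ← LinearMap.comp_apply g' g, hg', LinearMap.id_apply,
      Fintype.linearCombination_apply_single, one_smul]
  have hP : ∀ i, (P p c (i + 1)).eval y = (P p c i).eval y ^ p + μ (x i) := fun i => by
    simp [P, c]
  -- the error term
  let μ' : V →+ k := μ - ((ν.toAddMonoidHom.comp F) - (frobenius k p).toAddMonoidHom.comp ν.toAddMonoidHom)
  have hμ'a : ∀ v, μ' v = μ v - (ν (F v) - ν v ^ p) := fun v => rfl
  have hμ' : ∀ (c : k) (v : V), μ' (c • v) = c ^ p * μ' v := by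
    intro c v
    rw [hμ'a, hμ'a, hμ, hF, map_smul, map_smul, smul_eq_mul, smul_eq_mul, mul_pow]
    ring
  have hzero : ∀ i : Fin m, μ' (x i) = 0 := by
    intro i
    rw [hμ'a, hx]
    by_cases hi : (i : ℕ) + 1 < m
    · have h1 := hν ⟨i + 1, hi⟩
      have h1' : ν (x (i + 1)) = (P p c (i + 1)).eval y := h1
      rw [h1', hν i, hP]
      ring
    · have him : (i : ℕ) + 1 = m := by have := i.2; omega
      have h1 : ν (x m) = (P p c m).eval y := by
        rw [hy', ← hb, map_sum]
        refine Finset.sum_congr rfl fun j _ => ?_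
        rw [map_smul, hν j, smul_eq_mul]
      have h2 : (P p c m).eval y = (P p c i).eval y ^ p + μ (x i) := by
        have h3 := hP i
        rwa [him] at h3
      have h4 : ν (x (i + 1)) = (P p c m).eval y := by rw [him, h1]
      rw [h4, h2, hν i]
      ring
  let W : Submodule k V := Submodule.span k (Set.range fun i : Fin m => x i)
  have hμW : ∀ v ∈ W, μ' v = 0 := fun v hv => eq_zero_of_span p hμ' (by rintro _ ⟨i, rfl⟩; exact hzero i) hv
  have hFW : ∀ v ∈ W, F v ∈ W := by
    intro v hv
    induction hv using Submodule.span_induction with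
    | mem v hv =>
      obtain ⟨i, rfl⟩ := hv
      change F (x i) ∈ W
      rw [hx]
      by_cases hi : (i : ℕ) + 1 < m
      · exact Submodule.subset_span ⟨⟨i + 1, hi⟩, rfl⟩
      · have him : (i : ℕ) + 1 = m := by have := i.2; omega
        rw [him]
        exact hm
    | zero => rw [map_zero]; exact W.zero_mem
    | add a b _ _ ha hb => rw [map_add]; exact W.add_mem ha hb
    | smul a b _ hb => rw [hF]; exact W.smul_mem _ hb
  -- pass to the quotient
  let F' : V ⧸ W →+ V ⧸ W := QuotientAddGroup.map W.toAddSubgroup W.toAddSubgroup F hFW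
  have hF'a : ∀ v : V, F' (W.mkQ v) = W.mkQ (F v) := fun v => rfl
  let μ'' : V ⧸ W →+ k := QuotientAddGroup.lift W.toAddSubgroup μ' hμW
  have hμ''a : ∀ v : V, μ'' (W.mkQ v) = μ' v := fun v => rfl
  have hlt : finrank k (V ⧸ W) < n := by
    have h1 := W.finrank_quotient_add_finrank
    have h2 : 0 < finrank k W := by
      have : Nontrivial W := by
        refine ⟨⟨⟨x 0, Submodule.subset_span ⟨⟨0, hm0⟩, rfl⟩⟩, 0, fun h => he ?_⟩⟩
        exact congrArg Subtype.val h
      exact finrank_pos
    omega
  obtain ⟨ν', hν'⟩ := ih _ hlt (V := V ⧸ W) F' (by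
      intro c v
      obtain ⟨v, rfl⟩ := W.mkQ_surjective v
      rw [← map_smul, hF'a, hF, map_smul, hF'a]) μ'' (by
      intro c v
      obtain ⟨v, rfl⟩ := W.mkQ_surjective v
      rw [← map_smul, hμ''a, hμ', hμ''a]) rfl
  refine ⟨ν + ν'.comp W.mkQ, fun v => ?_⟩
  have h1 := hν' (W.mkQ v)
  rw [hF'a, hμ''a, hμ'a] at h1
  have h2 : ((ν + ν'.comp W.mkQ) v) ^ p = ν v ^ p + (ν' (W.mkQ v)) ^ p := by
    change (ν v + ν' (W.mkQ v)) ^ p = _
    exact add_pow_char (ν v) (ν' (W.mkQ v)) p
  rw [h2]
  change ν (F v) + ν' (W.mkQ (F v)) - (ν v ^ p + (ν' (W.mkQ v)) ^ p) = μ v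
  linear_combination h1

end K137.LangEq
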